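import Mathlib

/-!
# Integer-valued polynomials: `g! · R` has integer coefficients

If `R : ℚ[X]` has degree `≤ g` and takes integer values at `g + 1` consecutive integers, then
`g! · R` has integer coefficients.  We also derive the homogeneous two-variable variant used for
rank functions: if `b^(2g) Q(a/b) ∈ ℤ` for all fractions `a/b` in an open interval, then
`g! · Q ∈ ℤ[X]`.
-/

open Polynomial Finset
open scoped Nat
open fwdDiff

namespace Groth.Agent.NumTh.IntValued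

/-- the falling product `∏_{k<n} (X - (a₀ + k))` over `ℤ`. -/
noncomputable def nodal (a₀ : ℤ) (n : ℕ) : ℤ[X] := ∏ k ∈ range n, (X - C (a₀ + (k : ℤ)))

lemma nodal_monic (a₀ : ℤ) (n : ℕ) : (nodal a₀ n).Monic :=
  monic_prod_of_monic _ _ (fun _ _ => monic_X_sub_C _)

lemma nodal_natDegree (a₀ : ℤ) (n : ℕ) : (nodal a₀ n).natDegree = n := by
  rw [nodal, natDegree_prod_of_monic _ _ (fun k _ => monic_X_sub_C _)]
  simp only [natDegree_X_sub_C]
  simp

lemma nodal_eval (a₀ : ℤ) (n i : ℕ) (hi : i < n) : (nodal a₀ n).eval (a₀ + (i : ℤ)) = 0 := by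
  rw [nodal, eval_prod]
  exact prod_eq_zero (mem_range.mpr hi) (by simp)

lemma map_nodal_eval (a₀ : ℤ) (n i : ℕ) (hi : i < n) :
    ((nodal a₀ n).map (Int.castRingHom ℚ)).eval ((a₀ : ℚ) + (i : ℚ)) = 0 := by
  have h1 : ((a₀ : ℚ) + (i : ℚ)) = Int.castRingHom ℚ (a₀ + (i : ℤ)) := by simp
  rw [h1, eval_map, eval₂_hom, nodal_eval a₀ n i hi, map_zero]

theorem exists_int_poly (g : ℕ) : ∀ (R : ℚ[X]) (a₀ : ℤ), R.natDegree ≤ g →
    (∀ i : ℕ, i ≤ g → ∃ z : ℤ, R.eval ((a₀ : ℚ) + (i : ℚ)) = z) →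
    ∃ S : ℤ[X], C ((g ! : ℕ) : ℚ) * R = S.map (Int.castRingHom ℚ) := by
  induction g with
  | zero =>
    intro R a₀ hdeg hval
    obtain ⟨z, hz⟩ := hval 0 le_rfl
    refine ⟨C z, ?_⟩
    have hR : R = C (R.coeff 0) := eq_C_of_natDegree_le_zero hdeg
    rw [hR, eval_C] at hz
    rw [hR, hz]
    simp
  | succ g ih =>
    intro R a₀ hdeg hval
    set c := R.coeff (g + 1) with hc_def
    -- integrality of `(g+1)! * c`
    have hc : ∃ z : ℤ, (((g + 1)! : ℕ) : ℚ) * c = z := by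
      have h1 : (fwdDiff (1 : ℚ))^[g + 1] R.eval (a₀ : ℚ) = (((g + 1)! : ℕ) : ℚ) * c := by
        rcases hdeg.lt_or_eq with hlt | heq
        · rw [Polynomial.fwdDiff_iter_eq_zero_of_degree_lt hlt]
          simp [hc_def, coeff_eq_zero_of_natDegree_lt hlt]
        · have h2 := Polynomial.fwdDiff_iter_degree_eq_factorial R
          rw [heq] at h2
          rw [h2]
          simp [leadingCoeff, heq, hc_def, mul_comm]
      rw [← h1, fwdDiff_iter_eq_sum_shift]
      have hmem : ∀ k ∈ range (g + 1 + 1),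
          (((-1 : ℤ) ^ (g + 1 - k) * ((g + 1).choose k : ℤ)) • R.eval ((a₀ : ℚ) + k • (1 : ℚ))) ∈
            (Int.castRingHom ℚ).range := by
        intro k hk
        obtain ⟨z, hz⟩ := hval k (by have := mem_range.mp hk; omega)
        apply Subring.zsmul_mem
        refine ⟨z, ?_⟩
        have h5 : (k • (1 : ℚ)) = (k : ℚ) := by simp
        rw [h5, hz]
        simp
      obtain ⟨z, hz⟩ := Subring.sum_mem _ hmem
      exact ⟨z, hz.symm⟩
    obtain ⟨zc, hzc⟩ := hc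
    -- subtract the leading term
    set N : ℚ[X] := (nodal a₀ (g + 1)).map (Int.castRingHom ℚ) with hN
    have hNmonic : N.Monic := (nodal_monic a₀ (g + 1)).map _
    have hNdeg : N.natDegree = g + 1 := by
      rw [hN, (nodal_monic a₀ (g + 1)).natDegree_map, nodal_natDegree]
    set R' : ℚ[X] := R - C c * N with hR'
    have hR'deg : R'.natDegree ≤ g := by
      rw [natDegree_le_iff_coeff_eq_zero]
      intro m hm
      rcases (Nat.succ_le_of_lt hm).lt_or_eq with hlt | heq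
      · have h1 : R.coeff m = 0 := coeff_eq_zero_of_natDegree_lt (by omega)
        have h2 : N.coeff m = 0 := coeff_eq_zero_of_natDegree_lt (by omega)
        rw [hR', coeff_sub, coeff_C_mul, h1, h2]; simp
      · rw [hR', coeff_sub, coeff_C_mul, ← heq]
        have : N.coeff (g + 1) = 1 := by
          have := hNmonic.coeff_natDegree
          rwa [hNdeg] at this
        rw [Nat.succ_eq_add_one, this, hc_def]; simp
    have hR'val : ∀ i : ℕ, i ≤ g → ∃ z : ℤ, R'.eval ((a₀ : ℚ) + (i : ℚ)) = z := by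
      intro i hi
      obtain ⟨z, hz⟩ := hval i (by omega)
      refine ⟨z, ?_⟩
      rw [hR', eval_sub, eval_mul, hN, map_nodal_eval a₀ (g + 1) i (by omega), mul_zero, sub_zero,
        hz]
    obtain ⟨S', hS'⟩ := ih R' a₀ hR'deg hR'val
    refine ⟨C ((g + 1 : ℕ) : ℤ) * S' + C zc * nodal a₀ (g + 1), ?_⟩
    have hR : R = R' + C c * N := by rw [hR']; ring
    rw [Polynomial.map_add, Polynomial.map_mul, Polynomial.map_mul, ← hS', ← hN, map_C, map_C]
    have h3 : (Int.castRingHom ℚ) zc = (((g + 1)! : ℕ) : ℚ) * c := by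
      rw [hzc]; simp
    rw [h3]
    conv_lhs => rw [hR]
    rw [Nat.factorial_succ]
    simp only [Nat.cast_mul, map_mul, map_natCast]
    ring

/-- coefficientwise version. -/
theorem factorial_mul_coeff_int (g : ℕ) (R : ℚ[X]) (a₀ : ℤ) (hdeg : R.natDegree ≤ g)
    (hval : ∀ i : ℕ, i ≤ g → ∃ z : ℤ, R.eval ((a₀ : ℚ) + (i : ℚ)) = z) (j : ℕ) :
    ∃ z : ℤ, ((g ! : ℕ) : ℚ) * R.coeff j = z := by
  obtain ⟨S, hS⟩ := exists_int_poly g R a₀ hdeg hval
  refine ⟨S.coeff j, ?_⟩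
  have := congrArg (fun p => p.coeff j) hS
  simp only [coeff_C_mul, coeff_map, eq_intCast] at this
  exact this

/-- The homogeneous variant: if `b^(2g) Q(a/b)` is a natural number for every fraction `a/b`
in an open interval `(u, v)`, and `deg Q ≤ g`, then `g! · Q` has integer coefficients. -/
theorem factorial_mul_coeff_int_of_interval (g : ℕ) (Q : ℚ[X]) (hQ : Q.natDegree ≤ g) (u v : ℚ)
    (huv : u < v)
    (hval : ∀ (a : ℤ) (b : ℕ), 0 < b → u < (a : ℚ) / (b : ℚ) → (a : ℚ) / (b : ℚ) < v →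
      ∃ N : ℕ, (N : ℚ) / (b : ℚ) ^ (2 * g) = Q.eval ((a : ℚ) / (b : ℚ)))
    (j : ℕ) : ∃ z : ℤ, ((g ! : ℕ) : ℚ) * Q.coeff j = z := by
  by_cases hj : g < j
  · refine ⟨0, ?_⟩
    rw [coeff_eq_zero_of_natDegree_lt (lt_of_le_of_lt hQ hj)]
    simp
  rw [not_lt] at hj
  have hvu : 0 < v - u := sub_pos.mpr huv
  -- a bound for the denominators
  obtain ⟨B₀, hB₀⟩ : ∃ B₀ : ℕ, ((g : ℚ) + 2) / (v - u) < B₀ := exists_nat_gt _
  have hstep : ∀ b : ℕ, B₀ ≤ b →
      ∃ z : ℤ, ((g ! : ℕ) : ℚ) * Q.coeff j * (b : ℚ) ^ (2 * g - j) = z := by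
    intro b hb
    have hbq : ((g : ℚ) + 2) / (v - u) < b := lt_of_lt_of_le hB₀ (by exact_mod_cast hb)
    have hbpos' : (0 : ℚ) < b := lt_of_le_of_lt (by positivity) hbq
    have hbpos : 0 < b := by exact_mod_cast hbpos'
    have hb0 : (b : ℚ) ≠ 0 := hbpos'.ne'
    have hgb : (g : ℚ) + 2 < (v - u) * b := by
      rw [div_lt_iff₀ hvu] at hbq
      linarith
    set a₀ : ℤ := ⌊u * b⌋ + 1 with ha₀
    have ha₀1 : u * b < a₀ := by
      rw [ha₀]; push_cast; exact Int.lt_floor_add_one _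
    have ha₀2 : (a₀ : ℚ) ≤ u * b + 1 := by
      rw [ha₀]; push_cast
      have := Int.floor_le (u * b)
      linarith
    set R : ℚ[X] := C ((b : ℚ) ^ (2 * g)) * Q.comp (C (1 / (b : ℚ)) * X) with hR
    have hRdeg : R.natDegree ≤ g := by
      refine (natDegree_C_mul_le _ _).trans ?_
      refine natDegree_comp_le.trans ?_
      have h1 : (C (1 / (b : ℚ)) * X).natDegree ≤ 1 := by
        refine (natDegree_C_mul_le _ _).trans ?_
        rw [natDegree_X]
      calc Q.natDegree * (C (1 / (b : ℚ)) * X).natDegree ≤ g * 1 := Nat.mul_le_mul hQ h1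
        _ = g := mul_one g
    have hRval : ∀ i : ℕ, i ≤ g → ∃ z : ℤ, R.eval ((a₀ : ℚ) + (i : ℚ)) = z := by
      intro i hi
      have hiq : (i : ℚ) ≤ g := by exact_mod_cast hi
      have h1 : u < (((a₀ + (i : ℤ) : ℤ)) : ℚ) / (b : ℚ) := by
        rw [lt_div_iff₀ hbpos']
        push_cast
        have : (0 : ℚ) ≤ i := by positivity
        linarith
      have h2 : (((a₀ + (i : ℤ) : ℤ)) : ℚ) / (b : ℚ) < v := by
        rw [div_lt_iff₀ hbpos']
        push_cast
        linarith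
      obtain ⟨N, hN⟩ := hval (a₀ + (i : ℤ)) b hbpos h1 h2
      refine ⟨(N : ℤ), ?_⟩
      rw [hR, eval_mul, eval_C, eval_comp, eval_mul, eval_C, eval_X]
      have h3 : 1 / (b : ℚ) * ((a₀ : ℚ) + (i : ℚ)) = (((a₀ + (i : ℤ) : ℤ)) : ℚ) / (b : ℚ) := by
        push_cast; field_simp
      rw [h3, ← hN]
      have hb2 : ((b : ℚ) ^ (2 * g)) ≠ 0 := pow_ne_zero _ hb0
      field_simp
      simp
    obtain ⟨z, hz⟩ := factorial_mul_coeff_int g R a₀ hRdeg hRval j
    refine ⟨z, ?_⟩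
    rw [← hz, hR, coeff_C_mul, comp_C_mul_X_coeff]
    have h4 : (b : ℚ) ^ (2 * g) = (b : ℚ) ^ (2 * g - j) * (b : ℚ) ^ j := by
      rw [← pow_add]; congr 1; omega
    rw [h4, one_div, inv_pow]
    field_simp
  obtain ⟨z1, hz1⟩ := hstep B₀ le_rfl
  obtain ⟨z2, hz2⟩ := hstep (B₀ + 1) (Nat.le_succ _)
  have hcop : IsCoprime (((B₀ : ℕ) : ℤ) ^ (2 * g - j)) (((B₀ + 1 : ℕ) : ℤ) ^ (2 * g - j)) := by
    apply IsCoprime.pow
    rw [Int.isCoprime_iff_gcd_eq_one, Int.gcd_natCast_natCast]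
    exact (Nat.coprime_self_add_right.mpr (Nat.coprime_one_right _))
  obtain ⟨x, y, hxy⟩ := hcop
  refine ⟨x * z1 + y * z2, ?_⟩
  have hxy' : (x : ℚ) * (B₀ : ℚ) ^ (2 * g - j) + (y : ℚ) * ((B₀ + 1 : ℕ) : ℚ) ^ (2 * g - j) = 1 := by
    have := congrArg (fun t : ℤ => (t : ℚ)) hxy
    simpa using this
  push_cast
  rw [← hz1, ← hz2]
  push_cast at hxy' ⊢
  linear_combination (-(((g ! : ℕ) : ℚ) * Q.coeff j)) * hxy'

end Groth.Agent.NumTh.IntValued
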