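import Mathlib
import Groth.Agent.Lib.Helper21.TorusUnitsAlg

set_option autoImplicit false
universe u v

open AddMonoidAlgebra

namespace Groth.Agent.NumTh.LaurentCocycle

variable {A : Type u} [CommRing A]

/-- additive hom from a matrix -/
abbrev mh {p q : ℕ} (M : Matrix (Fin q) (Fin p) ℤ) : (Fin p → ℤ) →+ (Fin q → ℤ) :=
  (Matrix.mulVecLin M).toAddMonoidHom

abbrev D0 : (Fin 2 → ℤ) →+ (Fin 3 → ℤ) := mh !![0, 0; 1, 0; 0, 1]
abbrev D1 : (Fin 2 → ℤ) →+ (Fin 3 → ℤ) := mh !![1, 0; 1, 0; 0, 1]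
abbrev D2 : (Fin 2 → ℤ) →+ (Fin 3 → ℤ) := mh !![1, 0; 0, 1; 0, 1]
abbrev D3 : (Fin 2 → ℤ) →+ (Fin 3 → ℤ) := mh !![1, 0; 0, 1; 0, 0]
abbrev d0 : (Fin 1 → ℤ) →+ (Fin 2 → ℤ) := mh !![0; 1]
abbrev d1 : (Fin 1 → ℤ) →+ (Fin 2 → ℤ) := mh !![1; 1]
abbrev d2 : (Fin 1 → ℤ) →+ (Fin 2 → ℤ) := mh !![1; 0]

lemma D0_apply (v : Fin 2 → ℤ) : D0 v = ![0, v 0, v 1] := by
  ext i; fin_cases i <;> simp [Matrix.mulVec, dotProduct, Fin.sum_univ_succ]
lemma D1_apply (v : Fin 2 → ℤ) : D1 v = ![v 0, v 0, v 1] := by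
  ext i; fin_cases i <;> simp [Matrix.mulVec, dotProduct, Fin.sum_univ_succ]
lemma D2_apply (v : Fin 2 → ℤ) : D2 v = ![v 0, v 1, v 1] := by
  ext i; fin_cases i <;> simp [Matrix.mulVec, dotProduct, Fin.sum_univ_succ]
lemma D3_apply (v : Fin 2 → ℤ) : D3 v = ![v 0, v 1, 0] := by
  ext i; fin_cases i <;> simp [Matrix.mulVec, dotProduct, Fin.sum_univ_succ]
lemma d0_apply (v : Fin 1 → ℤ) : d0 v = ![0, v 0] := by
  ext i; fin_cases i <;> simp [Matrix.mulVec, dotProduct]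
lemma d1_apply (v : Fin 1 → ℤ) : d1 v = ![v 0, v 0] := by
  ext i; fin_cases i <;> simp [Matrix.mulVec, dotProduct]
lemma d2_apply (v : Fin 1 → ℤ) : d2 v = ![v 0, 0] := by
  ext i; fin_cases i <;> simp [Matrix.mulVec, dotProduct]

/-- the ring hom on group algebras induced by an additive hom -/
noncomputable abbrev mp {p q : ℕ} (φ : (Fin p → ℤ) →+ (Fin q → ℤ)) :
    A[Fin p → ℤ] →+* A[Fin q → ℤ] := mapDomainRingHom A φ

/-- the induced hom on units -/
noncomputable abbrev um {p q : ℕ} (φ : (Fin p → ℤ) →+ (Fin q → ℤ)) :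
    (A[Fin p → ℤ])ˣ →* (A[Fin q → ℤ])ˣ := Units.map (mp (A := A) φ).toMonoidHom

lemma um_um {p q r : ℕ} (ψ : (Fin q → ℤ) →+ (Fin r → ℤ)) (φ : (Fin p → ℤ) →+ (Fin q → ℤ))
    (x : (A[Fin p → ℤ])ˣ) : um ψ (um φ x) = um (ψ.comp φ) x := by
  ext : 1
  simp [um, mp, mapDomainRingHom_comp]

/-- coboundary of a 1-cochain -/
noncomputable def cob : (A[Fin 1 → ℤ])ˣ →* (A[Fin 2 → ℤ])ˣ :=
  um d0 * (um d1)⁻¹ * um d2

/-- coboundary of a 2-cochain -/
noncomputable def coc : (A[Fin 2 → ℤ])ˣ →* (A[Fin 3 → ℤ])ˣ :=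
  um D0 * (um D1)⁻¹ * um D2 * (um D3)⁻¹

lemma cob_apply (η : (A[Fin 1 → ℤ])ˣ) : cob η = um d0 η * (um d1 η)⁻¹ * um d2 η := rfl

lemma coc_apply (ξ : (A[Fin 2 → ℤ])ˣ) :
    coc ξ = um D0 ξ * (um D1 ξ)⁻¹ * um D2 ξ * (um D3 ξ)⁻¹ := rfl

lemma comp_00 : D0.comp d0 = D1.comp d0 := by
  ext v i; simp only [AddMonoidHom.comp_apply, D0_apply, D1_apply, d0_apply]; fin_cases i <;> simp
lemma comp_01 : D0.comp d1 = D2.comp d0 := by
  ext v i; simp only [AddMonoidHom.comp_apply, D0_apply, D2_apply, d0_apply, d1_apply]; fin_cases i <;> simp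
lemma comp_02 : D0.comp d2 = D3.comp d0 := by
  ext v i; simp only [AddMonoidHom.comp_apply, D0_apply, D3_apply, d0_apply, d2_apply]; fin_cases i <;> simp
lemma comp_11 : D1.comp d1 = D2.comp d1 := by
  ext v i; simp only [AddMonoidHom.comp_apply, D1_apply, D2_apply, d1_apply]; fin_cases i <;> simp
lemma comp_12 : D1.comp d2 = D3.comp d1 := by
  ext v i; simp only [AddMonoidHom.comp_apply, D1_apply, D3_apply, d1_apply, d2_apply]; fin_cases i <;> simp
lemma comp_22 : D2.comp d2 = D3.comp d2 := by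
  ext v i; simp only [AddMonoidHom.comp_apply, D2_apply, D3_apply, d2_apply]; fin_cases i <;> simp

lemma comm_identity {G : Type*} [CommGroup G] (a b c b' c' c'' : G) :
    (a * b⁻¹ * c) * (a * b'⁻¹ * c')⁻¹ * (b * b'⁻¹ * c'') * (c * c'⁻¹ * c'')⁻¹ = 1 := by
  have h := congrArg Additive.toMul (show (Additive.ofMul a - Additive.ofMul b + Additive.ofMul c)
    - (Additive.ofMul a - Additive.ofMul b' + Additive.ofMul c')
    + (Additive.ofMul b - Additive.ofMul b' + Additive.ofMul c'')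
    - (Additive.ofMul c - Additive.ofMul c' + Additive.ofMul c'') = 0 by abel)
  simpa [div_eq_mul_inv] using h

lemma coc_cob (η : (A[Fin 1 → ℤ])ˣ) : coc (cob η) = 1 := by
  rw [coc_apply, cob_apply]
  simp only [map_mul, map_inv, um_um]
  rw [comp_00, comp_01, comp_02, comp_11, comp_12, comp_22]
  exact comm_identity _ _ _ _ _ _

section CoeffIdeal

variable {A : Type u} [CommRing A] {G : Type v} [AddCommMonoid G]

/-- elements of the group algebra all of whose coefficients lie in `I` -/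
noncomputable def coeffIdeal (G : Type v) [AddCommMonoid G] (I : Ideal A) : Ideal A[G] :=
  RingHom.ker (mapRingHom G (Ideal.Quotient.mk I))

lemma mem_coeffIdeal {I : Ideal A} {f : A[G]} : f ∈ coeffIdeal G I ↔ ∀ v, f.coeff v ∈ I := by
  rw [coeffIdeal, RingHom.mem_ker]
  constructor
  · intro h v
    have := congrArg (fun g => g.coeff v) h
    simpa [Ideal.Quotient.eq_zero_iff_mem] using this
  · intro h
    ext v
    simp [Ideal.Quotient.eq_zero_iff_mem, h v]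

lemma coeffIdeal_mono {I J : Ideal A} (h : I ≤ J) : coeffIdeal G I ≤ coeffIdeal G J := by
  intro f hf
  rw [mem_coeffIdeal] at hf ⊢
  exact fun v => h (hf v)

lemma coeffIdeal_bot : coeffIdeal G (⊥ : Ideal A) = ⊥ := by
  ext f
  rw [mem_coeffIdeal, Ideal.mem_bot]
  constructor
  · intro h; ext v; simpa using h v
  · rintro rfl v; simp

lemma single_mem_coeffIdeal {I : Ideal A} (g : G) {a : A} (ha : a ∈ I) :
    single g a ∈ coeffIdeal G I := by
  classical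
  rw [mem_coeffIdeal]
  intro v
  rw [coeff_single, Finsupp.single_apply]
  split_ifs
  · exact ha
  · exact I.zero_mem

lemma coeffIdeal_mul_le (I J : Ideal A) : coeffIdeal G I * coeffIdeal G J ≤ coeffIdeal G (I * J) := by
  classical
  rw [Ideal.mul_le]
  intro f hf g hg
  rw [mem_coeffIdeal] at hf hg ⊢
  intro v
  rw [AddMonoidAlgebra.coeff_mul]
  refine Ideal.sum_mem _ fun a _ => Ideal.sum_mem _ fun b _ => ?_
  beta_reduce
  split_ifs
  · exact Ideal.mul_mem_mul (hf a) (hg b)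
  · exact Ideal.zero_mem _

lemma mul_eq_zero_of_mem_coeffIdeal {J : Ideal A} (hJ : J * J = ⊥) {f g : A[G]}
    (hf : f ∈ coeffIdeal G J) (hg : g ∈ coeffIdeal G J) : f * g = 0 := by
  have := coeffIdeal_mul_le (G := G) J J (Ideal.mul_mem_mul hf hg)
  rwa [hJ, coeffIdeal_bot, Ideal.mem_bot] at this

lemma coeffIdeal_pow_le (I : Ideal A) (n : ℕ) : coeffIdeal G I ^ n ≤ coeffIdeal G (I ^ n) := by
  induction n with
  | zero =>
    simp only [pow_zero, Ideal.one_eq_top]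
    intro f _
    rw [mem_coeffIdeal]
    intro v; exact Submodule.mem_top
  | succ n ih =>
    rw [pow_succ, pow_succ]
    exact (Ideal.mul_mono_left ih).trans (coeffIdeal_mul_le _ _)

lemma isNilpotent_of_mem_coeffIdeal {I : Ideal A} {n : ℕ} (hI : I ^ n = ⊥) {f : A[G]}
    (hf : f ∈ coeffIdeal G I) : IsNilpotent f := by
  refine ⟨n, ?_⟩
  have := coeffIdeal_pow_le (G := G) I n (Ideal.pow_mem_pow hf n)
  rwa [hI, coeffIdeal_bot, Ideal.mem_bot] at this

lemma mapDomain_mem_coeffIdeal {H : Type*} [AddCommMonoid H] {I : Ideal A} (φ : G →+ H) {f : A[G]}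
    (hf : f ∈ coeffIdeal G I) : mapDomainRingHom A φ f ∈ coeffIdeal H I := by
  classical
  rw [mem_coeffIdeal] at hf ⊢
  intro v
  rw [mapDomainRingHom_apply, coeff_mapDomain, Finsupp.mapDomain, Finsupp.sum_apply]
  refine Ideal.sum_mem _ fun a _ => ?_
  beta_reduce
  rw [Finsupp.single_apply]
  split_ifs
  · exact hf a
  · exact I.zero_mem

/-- naturality of coefficient ideals in the ring -/
lemma mapRingHom_mem_coeffIdeal {B : Type*} [CommRing B] (f : A →+* B) {I : Ideal A} {x : A[G]}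
    (hx : x ∈ coeffIdeal G I) : mapRingHom G f x ∈ coeffIdeal G (I.map f) := by
  rw [mem_coeffIdeal] at hx ⊢
  intro v
  rw [coeff_mapRingHom]
  exact Ideal.mem_map_of_mem f (hx v)

lemma exists_lift_coeffIdeal {B : Type*} [CommRing B] (f : A →+* B) (hf : Function.Surjective f)
    (I : Ideal A) {y : B[G]} (hy : y ∈ coeffIdeal G (I.map f)) :
    ∃ x ∈ coeffIdeal G I, mapRingHom G f x = y := by
  classical
  rw [mem_coeffIdeal] at hy
  have hch : ∀ b : B, ∃ a : A, f a = b ∧ (b ∈ I.map f → a ∈ I) := by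
    intro b
    by_cases hb : b ∈ I.map f
    · obtain ⟨a, ha, rfl⟩ := (Ideal.mem_map_iff_of_surjective f hf).1 hb
      exact ⟨a, rfl, fun _ => ha⟩
    · obtain ⟨a, rfl⟩ := hf b
      exact ⟨a, rfl, fun h => (hb h).elim⟩
  choose g hg1 hg2 using hch
  refine ⟨y.coeff.sum fun v b => single v (g b), ?_, ?_⟩
  · refine Ideal.sum_mem _ fun v _ => ?_
    exact single_mem_coeffIdeal v (hg2 _ (hy v))
  · rw [map_finsuppSum]
    simp only [mapRingHom_single, hg1]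
    ext v
    simp only [Finsupp.sum, coeff_sum, coeff_single, Finset.sum_apply', Finsupp.single_apply]
    rw [Finset.sum_ite_eq']
    split_ifs with h
    · rfl
    · exact (Finsupp.notMem_support_iff.1 h).symm

end CoeffIdeal

section Extract

variable {A : Type u} [CommRing A]

lemma coeff_mp_of_leftInverse {p q : ℕ} (φ : (Fin p → ℤ) →+ (Fin q → ℤ)) (ψ : (Fin q → ℤ) → (Fin p → ℤ))
    (h : Function.LeftInverse ψ φ) (f : A[Fin p → ℤ]) (w : Fin q → ℤ) :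
    (mp φ f).coeff w = if φ (ψ w) = w then f.coeff (ψ w) else 0 := by
  rw [mapDomainRingHom_apply, coeff_mapDomain]
  split_ifs with hw
  · conv_lhs => rw [← hw]
    exact Finsupp.mapDomain_apply h.injective _ _
  · apply Finsupp.mapDomain_of_notMem_range
    rintro ⟨g, rfl⟩
    exact hw (by rw [h g])

lemma vec1_eta (v : Fin 1 → ℤ) : ![v 0] = v := by ext i; fin_cases i; rfl
lemma vec2_eta (v : Fin 2 → ℤ) : ![v 0, v 1] = v := by ext i; fin_cases i <;> rfl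
lemma vec3_eta (v : Fin 3 → ℤ) : ![v 0, v 1, v 2] = v := by ext i; fin_cases i <;> rfl

lemma vec2_eq_iff (a b c d : ℤ) : (![a, b] : Fin 2 → ℤ) = ![c, d] ↔ a = c ∧ b = d := by
  constructor
  · intro h
    exact ⟨by simpa using congrFun h 0, by simpa using congrFun h 1⟩
  · rintro ⟨rfl, rfl⟩; rfl

lemma vec3_eq_iff (a b c a' b' c' : ℤ) :
    (![a, b, c] : Fin 3 → ℤ) = ![a', b', c'] ↔ a = a' ∧ b = b' ∧ c = c' := by
  constructor
  · intro h
    exact ⟨by simpa using congrFun h 0, by simpa using congrFun h 1, by simpa using congrFun h 2⟩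
  · rintro ⟨rfl, rfl, rfl⟩; rfl

lemma coeff_D0 (f : A[Fin 2 → ℤ]) (a b c : ℤ) :
    (mp D0 f).coeff ![a, b, c] = if a = 0 then f.coeff ![b, c] else 0 := by
  rw [coeff_mp_of_leftInverse D0 (fun w => ![w 1, w 2]) (fun v => by simp [D0_apply, vec2_eta])]
  simp only [D0_apply]
  simp [vec3_eq_iff, eq_comm]

lemma coeff_D1 (f : A[Fin 2 → ℤ]) (a b c : ℤ) :
    (mp D1 f).coeff ![a, b, c] = if a = b then f.coeff ![a, c] else 0 := by
  rw [coeff_mp_of_leftInverse D1 (fun w => ![w 0, w 2]) (fun v => by simp [D1_apply, vec2_eta])]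
  simp only [D1_apply]
  simp [vec3_eq_iff]

lemma coeff_D2 (f : A[Fin 2 → ℤ]) (a b c : ℤ) :
    (mp D2 f).coeff ![a, b, c] = if b = c then f.coeff ![a, b] else 0 := by
  rw [coeff_mp_of_leftInverse D2 (fun w => ![w 0, w 1]) (fun v => by simp [D2_apply, vec2_eta])]
  simp only [D2_apply]
  simp [vec3_eq_iff]

lemma coeff_D3 (f : A[Fin 2 → ℤ]) (a b c : ℤ) :
    (mp D3 f).coeff ![a, b, c] = if c = 0 then f.coeff ![a, b] else 0 := by
  rw [coeff_mp_of_leftInverse D3 (fun w => ![w 0, w 1]) (fun v => by simp [D3_apply, vec2_eta])]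
  simp only [D3_apply]
  simp [vec3_eq_iff, eq_comm]

lemma coeff_d0 (f : A[Fin 1 → ℤ]) (a b : ℤ) :
    (mp d0 f).coeff ![a, b] = if a = 0 then f.coeff ![b] else 0 := by
  rw [coeff_mp_of_leftInverse d0 (fun w => ![w 1]) (fun v => by simp [d0_apply, vec1_eta])]
  simp only [d0_apply]
  simp [vec2_eq_iff, eq_comm]

lemma coeff_d1 (f : A[Fin 1 → ℤ]) (a b : ℤ) :
    (mp d1 f).coeff ![a, b] = if a = b then f.coeff ![a] else 0 := by
  rw [coeff_mp_of_leftInverse d1 (fun w => ![w 0]) (fun v => by simp [d1_apply, vec1_eta])]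
  simp only [d1_apply]
  simp [vec2_eq_iff]

lemma coeff_d2 (f : A[Fin 1 → ℤ]) (a b : ℤ) :
    (mp d2 f).coeff ![a, b] = if b = 0 then f.coeff ![a] else 0 := by
  rw [coeff_mp_of_leftInverse d2 (fun w => ![w 0]) (fun v => by simp [d2_apply, vec1_eta])]
  simp only [d2_apply]
  simp [vec2_eq_iff, eq_comm]

end Extract


section SquareZero

variable {A : Type u} [CommRing A]

lemma coc_eq_one_iff (ξ : (A[Fin 2 → ℤ])ˣ) :
    coc ξ = 1 ↔ mp D0 (ξ : A[Fin 2 → ℤ]) * mp D2 (ξ : A[Fin 2 → ℤ]) =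
      mp D1 (ξ : A[Fin 2 → ℤ]) * mp D3 (ξ : A[Fin 2 → ℤ]) := by
  rw [coc_apply]
  have h1 : um D0 ξ * (um D1 ξ)⁻¹ * um D2 ξ * (um D3 ξ)⁻¹ = 1 ↔
      um D0 ξ * um D2 ξ = um D1 ξ * um D3 ξ := by
    rw [mul_inv_eq_one]
    constructor
    · intro h
      calc um D0 ξ * um D2 ξ = um D1 ξ * (um D0 ξ * (um D1 ξ)⁻¹ * um D2 ξ) := by
            rw [mul_comm (um D0 ξ) (um D1 ξ)⁻¹, ← mul_assoc, ← mul_assoc, mul_inv_cancel, one_mul]
        _ = um D1 ξ * um D3 ξ := by rw [h]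
    · intro h
      calc um D0 ξ * (um D1 ξ)⁻¹ * um D2 ξ = (um D1 ξ)⁻¹ * (um D0 ξ * um D2 ξ) := by
            rw [mul_comm (um D0 ξ) (um D1 ξ)⁻¹, mul_assoc]
        _ = um D3 ξ := by rw [h, ← mul_assoc, inv_mul_cancel, one_mul]
  rw [h1, Units.ext_iff]
  rfl

lemma eq_cob_iff (ξ : (A[Fin 2 → ℤ])ˣ) (η : (A[Fin 1 → ℤ])ˣ) :
    ξ = cob η ↔ (ξ : A[Fin 2 → ℤ]) * mp d1 (η : A[Fin 1 → ℤ]) =
      mp d0 (η : A[Fin 1 → ℤ]) * mp d2 (η : A[Fin 1 → ℤ]) := by
  rw [cob_apply]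
  have h1 : ξ = um d0 η * (um d1 η)⁻¹ * um d2 η ↔ ξ * um d1 η = um d0 η * um d2 η := by
    constructor
    · intro h
      rw [h, mul_comm (um d0 η) (um d1 η)⁻¹, mul_assoc, mul_comm, mul_assoc,
        mul_inv_cancel_left, mul_comm]
    · intro h
      rw [mul_comm (um d0 η) (um d1 η)⁻¹, mul_assoc, ← h, ← mul_assoc, mul_comm _ ξ, mul_assoc,
        inv_mul_cancel, mul_one]
  rw [h1, Units.ext_iff]
  rfl

/-- the square zero case -/
theorem exists_cob_of_sq_zero (J : Ideal A) (hJ : J * J = ⊥) (ξ : (A[Fin 2 → ℤ])ˣ) (hcoc : coc ξ = 1)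
    (hξ : (ξ : A[Fin 2 → ℤ]) - 1 ∈ coeffIdeal (Fin 2 → ℤ) J) :
    ∃ η : (A[Fin 1 → ℤ])ˣ, (η : A[Fin 1 → ℤ]) - 1 ∈ coeffIdeal (Fin 1 → ℤ) J ∧ ξ = cob η := by
  classical
  set ν : A[Fin 2 → ℤ] := (ξ : A[Fin 2 → ℤ]) - 1 with hν
  have hξν : (ξ : A[Fin 2 → ℤ]) = 1 + ν := by rw [hν]; ring
  -- additive cocycle identity
  have hE : mp D0 ν + mp D2 ν = mp D1 ν + mp D3 ν := by
    have h := (coc_eq_one_iff ξ).1 hcoc
    rw [hξν] at h
    simp only [map_add, map_one] at h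
    have z1 : mp D0 ν * mp D2 ν = 0 :=
      mul_eq_zero_of_mem_coeffIdeal hJ (mapDomain_mem_coeffIdeal D0 hξ) (mapDomain_mem_coeffIdeal D2 hξ)
    have z2 : mp D1 ν * mp D3 ν = 0 :=
      mul_eq_zero_of_mem_coeffIdeal hJ (mapDomain_mem_coeffIdeal D1 hξ) (mapDomain_mem_coeffIdeal D3 hξ)
    have e1 : (1 + mp D0 ν) * (1 + mp D2 ν) = 1 + (mp D0 ν + mp D2 ν) + mp D0 ν * mp D2 ν := by ring
    have e2 : (1 + mp D1 ν) * (1 + mp D3 ν) = 1 + (mp D1 ν + mp D3 ν) + mp D1 ν * mp D3 ν := by ring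
    rw [e1, e2, z1, z2, add_zero, add_zero] at h
    exact add_left_cancel h
  set m : ℤ → ℤ → A := fun a b => ν.coeff ![a, b] with hm
  have hE' : ∀ a b c : ℤ, (if a = 0 then m b c else 0) + (if b = c then m a b else 0) =
      (if a = b then m a c else 0) + (if c = 0 then m a b else 0) := by
    intro a b c
    have := congrArg (fun f => f.coeff ![a, b, c]) hE
    simpa only [coeff_add, Finsupp.add_apply, coeff_D0, coeff_D1, coeff_D2, coeff_D3] using this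
  have h1 : ∀ a b : ℤ, a ≠ 0 → b ≠ 0 → a ≠ b → m a b = 0 := by
    intro a b ha hb hab
    have := hE' a b b
    simpa [ha, hb, hab] using this
  have h2 : ∀ b : ℤ, b ≠ 0 → m 0 b = - m b b := by
    intro b hb
    have := hE' 0 b b
    simp only [if_true, if_neg hb, if_neg (Ne.symm hb), add_zero] at this
    exact eq_neg_of_add_eq_zero_right this
  have h3 : ∀ a : ℤ, a ≠ 0 → m a 0 = - m a a := by
    intro a ha
    have := hE' a a 0
    simp only [if_true, if_neg ha, add_zero] at this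
    exact eq_neg_of_add_eq_zero_left this.symm
  -- the 1-cochain
  have hd1inj : Function.Injective (d1 : (Fin 1 → ℤ) → (Fin 2 → ℤ)) := by
    intro v w h
    rw [d1_apply, d1_apply] at h
    ext i; fin_cases i
    exact ((vec2_eq_iff _ _ _ _).1 h).1
  set μ : A[Fin 1 → ℤ] := single 0 (2 * m 0 0) - comapDomain d1 hd1inj ν with hμ
  have hn : ∀ a : ℤ, μ.coeff ![a] = if a = 0 then m 0 0 else - m a a := by
    intro a
    rw [hμ, coeff_sub, Finsupp.sub_apply, coeff_single, Finsupp.single_apply, coeff_comapDomain,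
      Finsupp.comapDomain_apply, d1_apply]
    have : (![a] : Fin 1 → ℤ) 0 = a := rfl
    rw [this]
    by_cases ha : a = 0
    · subst ha
      have : (0 : Fin 1 → ℤ) = ![0] := by ext i; fin_cases i; rfl
      rw [if_pos this, if_pos rfl]
      simp only [hm]; ring
    · have : ¬ (0 : Fin 1 → ℤ) = ![a] := by
        intro h; exact ha (by simpa using (congrFun h 0).symm)
      rw [if_neg this, if_neg ha]
      simp only [hm]; ring
  have hμJ : μ ∈ coeffIdeal (Fin 1 → ℤ) J := by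
    rw [mem_coeffIdeal] at hξ ⊢
    intro v
    rw [← vec1_eta v, hn]
    split_ifs
    · exact hξ _
    · exact J.neg_mem (hξ _)
  -- key additive identity
  have hkey : ν + mp d1 μ = mp d0 μ + mp d2 μ := by
    ext v
    rw [← vec2_eta v]
    simp only [coeff_add, Finsupp.add_apply, coeff_d0, coeff_d1, coeff_d2, hn]
    show m (v 0) (v 1) + _ = _
    by_cases ha : v 0 = 0 <;> by_cases hb : v 1 = 0
    · simp [ha, hb]
    · rw [ha] ; simp [hb, Ne.symm hb, h2 _ hb]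
    · rw [hb]; simp [ha, h3 _ ha]
    · by_cases hab : v 0 = v 1
      · rw [← hab]; simp [ha]
      · simp [ha, hb, hab, h1 _ _ ha hb hab]
  -- build the unit
  have hμμ : μ * μ = 0 := mul_eq_zero_of_mem_coeffIdeal hJ hμJ hμJ
  have hunit : IsUnit (1 + μ) := by
    refine IsUnit.of_mul_eq_one (1 - μ) ?_
    have : (1 + μ) * (1 - μ) = 1 - μ * μ := by ring
    rw [this, hμμ, sub_zero]
  obtain ⟨η, hη⟩ := hunit
  refine ⟨η, ?_, ?_⟩
  · rw [hη]; simpa using hμJ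
  · rw [eq_cob_iff, hη, hξν]
    simp only [map_add, map_one]
    have z1 : ν * mp d1 μ = 0 :=
      mul_eq_zero_of_mem_coeffIdeal hJ hξ (mapDomain_mem_coeffIdeal d1 hμJ)
    have z2 : mp d0 μ * mp d2 μ = 0 :=
      mul_eq_zero_of_mem_coeffIdeal hJ (mapDomain_mem_coeffIdeal d0 hμJ) (mapDomain_mem_coeffIdeal d2 hμJ)
    have e1 : (1 + ν) * (1 + mp d1 μ) = 1 + (ν + mp d1 μ) + ν * mp d1 μ := by ring
    have e2 : (1 + mp d0 μ) * (1 + mp d2 μ) = 1 + (mp d0 μ + mp d2 μ) + mp d0 μ * mp d2 μ := by ring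
    rw [e1, e2, z1, z2, hkey]

end SquareZero


section Nilpotent

variable {A : Type u} [CommRing A] {B : Type v} [CommRing B]

/-- change of coefficient ring on units -/
noncomputable abbrev ur (f : A →+* B) {p : ℕ} : (A[Fin p → ℤ])ˣ →* (B[Fin p → ℤ])ˣ :=
  Units.map (mapRingHom (Fin p → ℤ) f).toMonoidHom

lemma ur_um (f : A →+* B) {p q : ℕ} (φ : (Fin p → ℤ) →+ (Fin q → ℤ)) (x : (A[Fin p → ℤ])ˣ) :
    ur f (um φ x) = um φ (ur f x) := by
  ext : 1
  exact RingHom.congr_fun (mapRingHom_comp_mapDomainRingHom f φ) (x : A[Fin p → ℤ])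

lemma ur_coc (f : A →+* B) (ξ : (A[Fin 2 → ℤ])ˣ) : ur f (coc ξ) = coc (ur f ξ) := by
  simp only [coc_apply, map_mul, map_inv, ur_um]

lemma ur_cob (f : A →+* B) (η : (A[Fin 1 → ℤ])ˣ) : ur f (cob η) = cob (ur f η) := by
  simp only [cob_apply, map_mul, map_inv, ur_um]

theorem exists_cob_of_nilpotent (r : ℕ) : ∀ (A : Type u) [CommRing A] (I : Ideal A), I ^ r = ⊥ →
    ∀ ξ : (A[Fin 2 → ℤ])ˣ, coc ξ = 1 → (ξ : A[Fin 2 → ℤ]) - 1 ∈ coeffIdeal (Fin 2 → ℤ) I →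
    ∃ η : (A[Fin 1 → ℤ])ˣ, (η : A[Fin 1 → ℤ]) - 1 ∈ coeffIdeal (Fin 1 → ℤ) I ∧ ξ = cob η := by
  induction r with
  | zero =>
    intro A _ I hI ξ _ _
    rw [pow_zero, Ideal.one_eq_top] at hI
    have : Subsingleton A := by
      rw [← subsingleton_iff_zero_eq_one]
      have : (1 : A) ∈ (⊥ : Ideal A) := hI ▸ Submodule.mem_top
      exact ((Ideal.mem_bot).1 this).symm
    have : Subsingleton (A[Fin 2 → ℤ]) := by
      refine ⟨fun x y => ?_⟩
      ext v
      exact Subsingleton.elim _ _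
    refine ⟨1, by simp, Subsingleton.elim _ _⟩
  | succ r ih =>
    intro A _ I hI ξ hcoc hξ
    rcases Nat.eq_zero_or_pos r with rfl | hr
    · -- `I = ⊥`
      rw [zero_add, pow_one] at hI
      rw [hI, coeffIdeal_bot, Ideal.mem_bot, sub_eq_zero] at hξ
      refine ⟨1, by simp, ?_⟩
      rw [map_one]
      exact Units.ext hξ
    · set J : Ideal A := I ^ r with hJ
      have hJI : J ≤ I := Ideal.pow_le_self (Nat.pos_iff_ne_zero.1 hr)
      have hJJ : J * J = ⊥ := by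
        rw [hJ, ← pow_add]
        apply le_bot_iff.1
        rw [← hI]
        exact Ideal.pow_le_pow_right (by omega)
      set f : A →+* A ⧸ J := Ideal.Quotient.mk J with hf
      have hfs : Function.Surjective f := Ideal.Quotient.mk_surjective
      have hIbar : (I.map f) ^ r = ⊥ := by
        rw [← Ideal.map_pow, ← hJ, hf, Ideal.map_quotient_self]
      have hcoc' : coc (ur f ξ) = 1 := by rw [← ur_coc, hcoc, map_one]
      have hξ' : ((ur f ξ : (A ⧸ J)[Fin 2 → ℤ]ˣ) : (A ⧸ J)[Fin 2 → ℤ]) - 1 ∈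
          coeffIdeal (Fin 2 → ℤ) (I.map f) := by
        have := mapRingHom_mem_coeffIdeal (G := Fin 2 → ℤ) f hξ
        simpa [map_sub] using this
      obtain ⟨ηb, hηb, hξηb⟩ := ih (A ⧸ J) (I.map f) hIbar (ur f ξ) hcoc' hξ'
      obtain ⟨μ, hμ, hμη⟩ := exists_lift_coeffIdeal (G := Fin 1 → ℤ) f hfs I hηb
      have hunit : IsUnit (1 + μ) := (isNilpotent_of_mem_coeffIdeal hI hμ).isUnit_one_add
      obtain ⟨η₁, hη₁⟩ := hunit
      have hη₁b : ur f η₁ = ηb := by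
        ext : 1
        show mapRingHom (Fin 1 → ℤ) f (η₁ : A[Fin 1 → ℤ]) = _
        rw [hη₁, map_add, map_one, hμη]; ring
      set ξ₁ : (A[Fin 2 → ℤ])ˣ := ξ * (cob η₁)⁻¹ with hξ₁
      have hcoc₁ : coc ξ₁ = 1 := by
        rw [hξ₁, map_mul, map_inv, hcoc, coc_cob, inv_one, mul_one]
      have hξ₁J : (ξ₁ : A[Fin 2 → ℤ]) - 1 ∈ coeffIdeal (Fin 2 → ℤ) J := by
        have h1 : ur f ξ₁ = 1 := by
          rw [hξ₁, map_mul, map_inv, ur_cob, hη₁b, ← hξηb, mul_inv_cancel]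
        rw [coeffIdeal, RingHom.mem_ker, map_sub, map_one, sub_eq_zero]
        exact congrArg Units.val h1
      obtain ⟨η₂, hη₂, hξη₂⟩ := exists_cob_of_sq_zero J hJJ ξ₁ hcoc₁ hξ₁J
      refine ⟨η₁ * η₂, ?_, ?_⟩
      · have h1 : (η₁ : A[Fin 1 → ℤ]) - 1 ∈ coeffIdeal (Fin 1 → ℤ) I := by
          rw [hη₁]; simpa using hμ
        have h2 := coeffIdeal_mono (G := Fin 1 → ℤ) hJI hη₂
        have : ((η₁ * η₂ : (A[Fin 1 → ℤ])ˣ) : A[Fin 1 → ℤ]) - 1 =
            ((η₁ : A[Fin 1 → ℤ]) - 1) * (η₂ : A[Fin 1 → ℤ]) + ((η₂ : A[Fin 1 → ℤ]) - 1) := by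
          rw [Units.val_mul]; ring
        rw [this]
        exact Ideal.add_mem _ (Ideal.mul_mem_right _ _ h1) h2
      · rw [map_mul, ← hξη₂, hξ₁, mul_comm ξ, mul_inv_cancel_left]

end Nilpotent


section Normalize

variable {A : Type u} [CommRing A]

abbrev pi1 : (Fin 2 → ℤ) →+ (Fin 1 → ℤ) := mh !![1, 0]
abbrev pi2 : (Fin 2 → ℤ) →+ (Fin 1 → ℤ) := mh !![0, 1]
abbrev sz : (Fin 3 → ℤ) →+ (Fin 2 → ℤ) := mh !![1, 0, 0; 0, 1, 0]
abbrev sx : (Fin 3 → ℤ) →+ (Fin 2 → ℤ) := mh !![0, 1, 0; 0, 0, 1]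

lemma pi1_apply (v : Fin 2 → ℤ) : pi1 v = ![v 0] := by
  ext i; fin_cases i; simp [Matrix.mulVec, dotProduct, Fin.sum_univ_succ]
lemma pi2_apply (v : Fin 2 → ℤ) : pi2 v = ![v 1] := by
  ext i; fin_cases i; simp [Matrix.mulVec, dotProduct, Fin.sum_univ_succ]
lemma sz_apply (v : Fin 3 → ℤ) : sz v = ![v 0, v 1] := by
  ext i; fin_cases i <;> simp [Matrix.mulVec, dotProduct, Fin.sum_univ_succ]
lemma sx_apply (v : Fin 3 → ℤ) : sx v = ![v 1, v 2] := by
  ext i; fin_cases i <;> simp [Matrix.mulVec, dotProduct, Fin.sum_univ_succ]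

lemma sz_D0 : sz.comp D0 = d0.comp pi1 := by
  ext v i; simp only [AddMonoidHom.comp_apply, sz_apply, D0_apply, d0_apply, pi1_apply]; fin_cases i <;> simp
lemma sz_D1 : sz.comp D1 = d1.comp pi1 := by
  ext v i; simp only [AddMonoidHom.comp_apply, sz_apply, D1_apply, d1_apply, pi1_apply]; fin_cases i <;> simp
lemma sz_D2 : sz.comp D2 = AddMonoidHom.id _ := by
  ext v i; simp only [AddMonoidHom.comp_apply, sz_apply, D2_apply, AddMonoidHom.id_apply]; fin_cases i <;> simp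
lemma sz_D3 : sz.comp D3 = AddMonoidHom.id _ := by
  ext v i; simp only [AddMonoidHom.comp_apply, sz_apply, D3_apply, AddMonoidHom.id_apply]; fin_cases i <;> simp
lemma sx_D0 : sx.comp D0 = AddMonoidHom.id _ := by
  ext v i; simp only [AddMonoidHom.comp_apply, sx_apply, D0_apply, AddMonoidHom.id_apply]; fin_cases i <;> simp
lemma sx_D1 : sx.comp D1 = AddMonoidHom.id _ := by
  ext v i; simp only [AddMonoidHom.comp_apply, sx_apply, D1_apply, AddMonoidHom.id_apply]; fin_cases i <;> simp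
lemma sx_D2 : sx.comp D2 = d1.comp pi2 := by
  ext v i; simp only [AddMonoidHom.comp_apply, sx_apply, D2_apply, d1_apply, pi2_apply]; fin_cases i <;> simp
lemma sx_D3 : sx.comp D3 = d2.comp pi2 := by
  ext v i; simp only [AddMonoidHom.comp_apply, sx_apply, D3_apply, d2_apply, pi2_apply]; fin_cases i <;> simp

lemma mp_mp {p q r : ℕ} (ψ : (Fin q → ℤ) →+ (Fin r → ℤ)) (φ : (Fin p → ℤ) →+ (Fin q → ℤ))
    (x : A[Fin p → ℤ]) : mp ψ (mp φ x) = mp (ψ.comp φ) x := by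
  simp [mp, mapDomainRingHom_comp]

lemma mp_id {p : ℕ} (x : A[Fin p → ℤ]) : mp (AddMonoidHom.id _) x = x := by
  simp [mp]

lemma eq_single_of_coeff (g : A[Fin 1 → ℤ]) (hg : ∀ a : ℤ, a ≠ 0 → g.coeff ![a] = 0) :
    g = single 0 (g.coeff 0) := by
  classical
  ext v
  rw [coeff_single, Finsupp.single_apply]
  split_ifs with h
  · rw [h]
  · rw [← vec1_eta v]
    apply hg
    intro h0
    apply h
    ext i; fin_cases i; exact h0.symm

/-- specialising the cocycle identity: `ξ(x,1)` is constant -/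
lemma pi1_const (ξ : (A[Fin 2 → ℤ])ˣ) (hcoc : coc ξ = 1) :
    mp pi1 (ξ : A[Fin 2 → ℤ]) = single 0 ((mp pi1 (ξ : A[Fin 2 → ℤ])).coeff 0) := by
  have h := congrArg (mp sz) ((coc_eq_one_iff ξ).1 hcoc)
  simp only [map_mul, mp_mp, sz_D0, sz_D1, sz_D2, sz_D3, mp_id] at h
  have h2 : mp (d0.comp pi1) (ξ : A[Fin 2 → ℤ]) = mp (d1.comp pi1) (ξ : A[Fin 2 → ℤ]) :=
    ξ.isUnit.mul_left_injective h
  rw [← mp_mp, ← mp_mp] at h2
  apply eq_single_of_coeff
  intro a ha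
  have := congrArg (fun f => f.coeff ![a, a]) h2
  simp only [coeff_d0, coeff_d1, if_neg ha, if_true] at this
  exact this.symm

/-- specialising the cocycle identity: `ξ(1,y)` is constant -/
lemma pi2_const (ξ : (A[Fin 2 → ℤ])ˣ) (hcoc : coc ξ = 1) :
    mp pi2 (ξ : A[Fin 2 → ℤ]) = single 0 ((mp pi2 (ξ : A[Fin 2 → ℤ])).coeff 0) := by
  have h := congrArg (mp sx) ((coc_eq_one_iff ξ).1 hcoc)
  simp only [map_mul, mp_mp, sx_D0, sx_D1, sx_D2, sx_D3, mp_id] at h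
  have h2 : mp (d1.comp pi2) (ξ : A[Fin 2 → ℤ]) = mp (d2.comp pi2) (ξ : A[Fin 2 → ℤ]) :=
    ξ.isUnit.mul_right_injective h
  rw [← mp_mp, ← mp_mp] at h2
  apply eq_single_of_coeff
  intro a ha
  have := congrArg (fun f => f.coeff ![a, a]) h2
  simp only [coeff_d1, coeff_d2, if_neg ha, if_true] at this
  exact this

lemma pi_coeff_eq (x : A[Fin 2 → ℤ])
    (h1 : mp pi1 x = single 0 ((mp pi1 x).coeff 0)) (h2 : mp pi2 x = single 0 ((mp pi2 x).coeff 0)) :
    (mp pi1 x).coeff 0 = (mp pi2 x).coeff 0 := by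
  have e : (0 : (Fin 1 → ℤ) →+ (Fin 1 → ℤ)).comp pi1 = (0 : (Fin 1 → ℤ) →+ (Fin 1 → ℤ)).comp pi2 := by
    ext v i; simp
  have h := congrArg (fun φ => mp φ x) e
  simp only [← mp_mp] at h
  rw [h1, h2] at h
  simp only [mapDomainRingHom_apply, mapDomain_single, AddMonoidHom.zero_apply] at h
  have := congrArg (fun f => f.coeff 0) h
  simpa using this

end Normalize


section Final

variable {A : Type u} [CommRing A]

/-- constant units -/
noncomputable def constU (p : ℕ) : Aˣ →* (A[Fin p → ℤ])ˣ :=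
  Units.map (singleZeroRingHom (R := A) (M := Fin p → ℤ)).toMonoidHom

lemma constU_val (p : ℕ) (c : Aˣ) : ((constU p c : (A[Fin p → ℤ])ˣ) : A[Fin p → ℤ]) = single 0 (c : A) := rfl

lemma um_constU {p q : ℕ} (φ : (Fin p → ℤ) →+ (Fin q → ℤ)) (c : Aˣ) :
    um φ (constU p c) = constU q c := by
  ext : 1
  show mp φ (single 0 (c : A)) = single 0 (c : A)
  simp [mp, mapDomainRingHom_apply]

lemma coc_constU (c : Aˣ) : coc (constU 2 c) = 1 := by
  rw [coc_apply]; simp only [um_constU]; simp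

lemma cob_constU (c : Aˣ) : cob (constU 1 c) = constU 2 c := by
  rw [cob_apply]; simp only [um_constU]; simp

/-- modulo a prime, a normalised cocycle is the constant -/
lemma sub_single_mem_coeffIdeal_prime (ξ : (A[Fin 2 → ℤ])ˣ) (hcoc : coc ξ = 1) (P : Ideal A) [P.IsPrime] :
    (ξ : A[Fin 2 → ℤ]) - single 0 ((mp pi1 (ξ : A[Fin 2 → ℤ])).coeff 0) ∈ coeffIdeal (Fin 2 → ℤ) P := by
  classical
  set f : A →+* A ⧸ P := Ideal.Quotient.mk P with hf
  set c : A := (mp pi1 (ξ : A[Fin 2 → ℤ])).coeff 0 with hc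
  have h1 := pi1_const ξ hcoc
  have h2 := pi2_const ξ hcoc
  have hc2 : (mp pi2 (ξ : A[Fin 2 → ℤ])).coeff 0 = c := (pi_coeff_eq _ h1 h2).symm
  rw [hc2] at h2
  rw [← hc] at h1
  obtain ⟨e, a, hea, ha⟩ := Groth.Agent.Lib.Helper21.TorusUnits.exists_single_of_mul_eq_one
    (((ur f ξ : ((A ⧸ P)[Fin 2 → ℤ])ˣ)) : (A ⧸ P)[Fin 2 → ℤ])
    (((ur f ξ)⁻¹ : ((A ⧸ P)[Fin 2 → ℤ])ˣ) : (A ⧸ P)[Fin 2 → ℤ]) (Units.mul_inv _)
  have ha0 : a ≠ 0 := ha.ne_zero
  have hval : ((ur f ξ : ((A ⧸ P)[Fin 2 → ℤ])ˣ) : (A ⧸ P)[Fin 2 → ℤ]) =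
      mapRingHom (Fin 2 → ℤ) f (ξ : A[Fin 2 → ℤ]) := rfl
  -- first coordinate
  have k1 : single (pi1 e) a = single (0 : Fin 1 → ℤ) (f c) := by
    have := congrArg (mapRingHom (Fin 1 → ℤ) f) h1
    rw [mapRingHom_single] at this
    rw [← this, ← mapDomain_single (f := (pi1 : (Fin 2 → ℤ) → (Fin 1 → ℤ))), ← hea, hval]
    exact (RingHom.congr_fun (mapRingHom_comp_mapDomainRingHom f pi1) (ξ : A[Fin 2 → ℤ])).symm
  have k2 : single (pi2 e) a = single (0 : Fin 1 → ℤ) (f c) := by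
    have := congrArg (mapRingHom (Fin 1 → ℤ) f) h2
    rw [mapRingHom_single] at this
    rw [← this, ← mapDomain_single (f := (pi2 : (Fin 2 → ℤ) → (Fin 1 → ℤ))), ← hea, hval]
    exact (RingHom.congr_fun (mapRingHom_comp_mapDomainRingHom f pi2) (ξ : A[Fin 2 → ℤ])).symm
  have key : ∀ w : Fin 1 → ℤ, single w a = single (0 : Fin 1 → ℤ) (f c) → w = 0 ∧ a = f c := by
    intro w hw
    have := congrArg (fun g => g.coeff w) hw
    simp only [coeff_single, Finsupp.single_apply, if_true] at this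
    by_cases h0 : (0 : Fin 1 → ℤ) = w
    · rw [if_pos h0] at this; exact ⟨h0.symm, this⟩
    · rw [if_neg h0] at this; exact (ha0 this).elim
  obtain ⟨e1, hac⟩ := key _ k1
  obtain ⟨e2, -⟩ := key _ k2
  have he : e = 0 := by
    rw [pi1_apply] at e1
    rw [pi2_apply] at e2
    ext i; fin_cases i
    · simpa using congrFun e1 0
    · simpa using congrFun e2 0
  rw [coeffIdeal, RingHom.mem_ker, map_sub, mapRingHom_single, sub_eq_zero, ← hval, hea, he, hac]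

theorem exists_cob (ξ : (A[Fin 2 → ℤ])ˣ) (hcoc : coc ξ = 1) : ∃ η : (A[Fin 1 → ℤ])ˣ, ξ = cob η := by
  classical
  set c : A := (mp pi1 (ξ : A[Fin 2 → ℤ])).coeff 0 with hc
  have h1 := pi1_const ξ hcoc
  rw [← hc] at h1
  -- `c` is a unit
  have hcinv : coc ξ⁻¹ = 1 := by rw [map_inv, hcoc, inv_one]
  have h1' := pi1_const ξ⁻¹ hcinv
  have hcu : IsUnit c := by
    refine IsUnit.of_mul_eq_one ((mp pi1 ((ξ⁻¹ : (A[Fin 2 → ℤ])ˣ) : A[Fin 2 → ℤ])).coeff 0) ?_
    have : mp pi1 (ξ : A[Fin 2 → ℤ]) * mp pi1 ((ξ⁻¹ : (A[Fin 2 → ℤ])ˣ) : A[Fin 2 → ℤ]) = 1 := by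
      rw [← map_mul, Units.mul_inv, map_one]
    rw [h1, h1', single_mul_single, add_zero, one_def] at this
    have := congrArg (fun g => g.coeff 0) this
    simpa using this
  obtain ⟨cu, hcu'⟩ := hcu
  set ξ' : (A[Fin 2 → ℤ])ˣ := ξ * (constU 2 cu)⁻¹ with hξ'
  have hcoc' : coc ξ' = 1 := by rw [hξ', map_mul, map_inv, hcoc, coc_constU, inv_one, mul_one]
  have hdiff : (ξ' : A[Fin 2 → ℤ]) - 1 = ((ξ : A[Fin 2 → ℤ]) - single 0 c) *
      (((constU 2 cu)⁻¹ : (A[Fin 2 → ℤ])ˣ) : A[Fin 2 → ℤ]) := by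
    rw [hξ', Units.val_mul, sub_mul, ← hcu', ← constU_val 2 cu, Units.mul_inv]
  have hprime : ∀ (P : Ideal A) [P.IsPrime], (ξ' : A[Fin 2 → ℤ]) - 1 ∈ coeffIdeal (Fin 2 → ℤ) P := by
    intro P _
    rw [hdiff]
    exact Ideal.mul_mem_right _ _ (sub_single_mem_coeffIdeal_prime ξ hcoc P)
  set ν : A[Fin 2 → ℤ] := (ξ' : A[Fin 2 → ℤ]) - 1 with hν
  set I : Ideal A := Ideal.span ((ν.coeff.support.image ν.coeff : Finset A) : Set A) with hI
  have hIfg : I.FG := ⟨_, rfl⟩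
  have hIle : I ≤ nilradical A := by
    rw [hI, Ideal.span_le]
    intro a ha
    simp only [Finset.coe_image, Set.mem_image, Finset.mem_coe] at ha
    obtain ⟨v, -, rfl⟩ := ha
    rw [nilradical_eq_sInf]
    simp only [SetLike.mem_coe, Ideal.mem_sInf, Set.mem_setOf_eq]
    intro P hP
    have := hprime P
    rw [mem_coeffIdeal] at this
    exact this v
  obtain ⟨r, hr⟩ := (hIfg.isNilpotent_iff_le_nilradical).2 hIle
  have hνI : ν ∈ coeffIdeal (Fin 2 → ℤ) I := by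
    rw [mem_coeffIdeal]
    intro v
    by_cases hv : v ∈ ν.coeff.support
    · exact Ideal.subset_span (Finset.mem_coe.2 (Finset.mem_image_of_mem _ hv))
    · rw [Finsupp.notMem_support_iff.1 hv]; exact I.zero_mem
  obtain ⟨η', -, hη'⟩ := exists_cob_of_nilpotent r A I hr ξ' hcoc' hνI
  refine ⟨η' * constU 1 cu, ?_⟩
  rw [map_mul, ← hη', cob_constU, hξ', inv_mul_cancel_right]

end Final

end Groth.Agent.NumTh.LaurentCocycle
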