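import Groth.Agent.S2019
import Groth.Agent.S2021
import Groth.Agent.H76.Milnor
import Groth.Agent.Lib.Helper86.OTDual

/-!
# Surjectivity of `Pic` along one side of a Milnor square with `Pic` of the corner trivial

For a fibre square `B' = B ×_A A'` with `B' → B`, `B' → A'` surjective and `Pic A = 1`, every
invertible `B`-module `N` is glued with the free `A'`-module `A'` along a trivialisation of
`A ⊗_B N`; the glued `B'`-module is finite projective (S2021) with base changes `N` and `A'`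
(S2019), hence of rank one at every prime, hence invertible.
-/

set_option autoImplicit false
universe u

open TensorProduct CommRing

namespace Groth.Agent.NumTh.PicMilnor

section abstract

variable (B' B A' A : Type u) [CommRing B'] [CommRing B] [CommRing A'] [CommRing A]
  [Algebra B' B] [Algebra B' A'] [Algebra B A] [Algebra A' A] [Algebra B' A]
  [IsScalarTower B' B A] [IsScalarTower B' A' A]

/-- every prime of `B'` contains one of the two kernels. -/
theorem ker_le_or_ker_le (hsq : EtMil.IsFibreSquare B' B A' A) (q : Ideal B') [hq : q.IsPrime] :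
    RingHom.ker (algebraMap B' B) ≤ q ∨ RingHom.ker (algebraMap B' A') ≤ q := by
  apply (Ideal.IsPrime.mul_le hq).mp
  intro x hx
  have hx0 : x = 0 := by
    refine Submodule.mul_induction_on hx ?_ ?_
    · intro a ha b hb
      apply Groth.Agent.H76.Milnor.eq_of_maps_eq (B := B) (A' := A') (A := A) hsq
      · rw [map_mul, (RingHom.mem_ker).mp ha, zero_mul, map_zero]
      · rw [map_mul, (RingHom.mem_ker).mp hb, mul_zero, map_zero]
    · intro a b ha hb
      rw [ha, hb, add_zero]
  rw [hx0]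
  exact q.zero_mem

theorem exists_invertible_glue (hsq : EtMil.IsFibreSquare B' B A' A)
    (hB : Function.Surjective (algebraMap B' B)) (hA' : Function.Surjective (algebraMap B' A'))
    [Subsingleton (Pic A)]
    (N : Type u) [AddCommGroup N] [Module B N] [Module B' N] [IsScalarTower B' B N]
    [Module.Invertible B N] :
    ∃ (G : Type u) (_ : AddCommGroup G) (_ : Module B' G), Module.Invertible B' G ∧
      Nonempty (B ⊗[B'] G ≃ₗ[B] N) := by
  classical
  -- a trivialisation of `A ⊗_B N`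
  obtain ⟨e₁⟩ : Nonempty (A ⊗[B] N ≃ₗ[A] A) :=
    Module.Invertible.free_iff_linearEquiv.mp inferInstance
  let φ : A ⊗[B] N ≃ₗ[A] A ⊗[A'] A' := e₁ ≪≫ₗ (TensorProduct.AlgebraTensorModule.rid A' A A).symm
  obtain ⟨hfin, hproj⟩ := (Groth.Agent.S2021.result B' B A' A hsq N A' φ).2 inferInstance
    inferInstance inferInstance inferInstance
  obtain ⟨hb1, hb2⟩ := Groth.Agent.S2019.result B' B A' A hsq N A' φ
  let E1 : B ⊗[B'] (EtMil.glue B' φ) ≃ₗ[B] N := LinearEquiv.ofBijective _ hb1
  let E2 : A' ⊗[B'] (EtMil.glue B' φ) ≃ₗ[A'] A' := LinearEquiv.ofBijective _ hb2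
  refine ⟨EtMil.glue B' φ, inferInstance, inferInstance, ?_, ⟨E1⟩⟩
  apply Groth.Agent.Lib.Helper86.OTDual.invertible_of_rank_one
  intro q
  rcases ker_le_or_ker_le B' B A' A hsq q.asIdeal with hk | hk
  · -- `q` comes from `B`
    have hmem : q ∈ Set.range (PrimeSpectrum.comap (algebraMap B' B)) := by
      rw [range_comap_of_surjective _ _ hB]
      exact hk
    obtain ⟨p, rfl⟩ := hmem
    rw [← Module.rankAtStalk_baseChange (R := B') (M := EtMil.glue B' φ) p,
      Module.rankAtStalk_eq_of_equiv E1]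
    simp [Module.rankAtStalk, Module.Invertible.finrank_eq_one]
  · have hmem : q ∈ Set.range (PrimeSpectrum.comap (algebraMap B' A')) := by
      rw [range_comap_of_surjective _ _ hA']
      exact hk
    obtain ⟨p, rfl⟩ := hmem
    rw [← Module.rankAtStalk_baseChange (R := B') (M := EtMil.glue B' φ) p,
      Module.rankAtStalk_eq_of_equiv E2]
    simp [Module.rankAtStalk]

theorem pic_mapAlgebra_surjective (hsq : EtMil.IsFibreSquare B' B A' A)
    (hB : Function.Surjective (algebraMap B' B)) (hA' : Function.Surjective (algebraMap B' A'))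
    [Subsingleton (Pic A)] :
    Function.Surjective (Pic.mapAlgebra B' B) := by
  intro M
  let _inst1 : Module B' M := Module.compHom M (algebraMap B' B)
  have _inst2 : IsScalarTower B' B M := IsScalarTower.of_algebraMap_smul fun _ _ => rfl
  obtain ⟨G, _, _, hG, ⟨E⟩⟩ := exists_invertible_glue B' B A' A hsq hB hA' M
  refine ⟨Pic.mk B' G, ?_⟩
  rw [Pic.mapAlgebra_apply, Pic.mk_eq_iff]
  exact ⟨(TensorProduct.AlgebraTensorModule.congr (LinearEquiv.refl B B)
    (Pic.mk.linearEquiv B' G)) ≪≫ₗ E⟩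

end abstract

section quot

variable {P : Type u} [CommRing P]

/-- `P/(Iv ∩ Iu) → P/Iv` is surjective on Picard groups when `Pic (P/(Iv + Iu))` is trivial. -/
theorem pic_surjective_quot (Iw Iv Iu : Ideal P) (hv : Iw ≤ Iv) (hu : Iw ≤ Iu)
    (hinf : Iv ⊓ Iu ≤ Iw) [Subsingleton (Pic (P ⧸ (Iv ⊔ Iu)))] :
    Function.Surjective (Pic.mapRingHom (Ideal.Quotient.factor hv)) := by
  let a1 : Algebra (P ⧸ Iw) (P ⧸ Iv) := (Ideal.Quotient.factor hv).toAlgebra
  let a2 : Algebra (P ⧸ Iw) (P ⧸ Iu) := (Ideal.Quotient.factor hu).toAlgebra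
  let a3 : Algebra (P ⧸ Iv) (P ⧸ (Iv ⊔ Iu)) := (Ideal.Quotient.factor le_sup_left).toAlgebra
  let a4 : Algebra (P ⧸ Iu) (P ⧸ (Iv ⊔ Iu)) := (Ideal.Quotient.factor le_sup_right).toAlgebra
  let a5 : Algebra (P ⧸ Iw) (P ⧸ (Iv ⊔ Iu)) :=
    (Ideal.Quotient.factor (hv.trans le_sup_left)).toAlgebra
  have t1 : IsScalarTower (P ⧸ Iw) (P ⧸ Iv) (P ⧸ (Iv ⊔ Iu)) :=
    IsScalarTower.of_algebraMap_eq (fun x => by
      obtain ⟨x, rfl⟩ := Ideal.Quotient.mk_surjective x
      rfl)
  have t2 : IsScalarTower (P ⧸ Iw) (P ⧸ Iu) (P ⧸ (Iv ⊔ Iu)) :=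
    IsScalarTower.of_algebraMap_eq (fun x => by
      obtain ⟨x, rfl⟩ := Ideal.Quotient.mk_surjective x
      rfl)
  have hsq : EtMil.IsFibreSquare (P ⧸ Iw) (P ⧸ Iv) (P ⧸ Iu) (P ⧸ (Iv ⊔ Iu)) := by
    refine ⟨Ideal.Quotient.factor_surjective le_sup_right, ?_⟩
    intro b a' h
    obtain ⟨b, rfl⟩ := Ideal.Quotient.mk_surjective b
    obtain ⟨a', rfl⟩ := Ideal.Quotient.mk_surjective a'
    have h' : b - a' ∈ Iv ⊔ Iu := Ideal.Quotient.eq.mp h
    obtain ⟨i, hi, j, hj, hij⟩ := Submodule.mem_sup.mp h'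
    refine ⟨Ideal.Quotient.mk Iw (b - i), ⟨?_, ?_⟩, ?_⟩
    · show Ideal.Quotient.mk Iv (b - i) = Ideal.Quotient.mk Iv b
      apply Ideal.Quotient.eq.mpr
      have : b - i - b = -i := by ring
      rw [this]
      exact Iv.neg_mem hi
    · show Ideal.Quotient.mk Iu (b - i) = Ideal.Quotient.mk Iu a'
      apply Ideal.Quotient.eq.mpr
      have : b - i - a' = j := by linear_combination -hij
      rw [this]
      exact hj
    · rintro y ⟨hy1, hy2⟩
      obtain ⟨y, rfl⟩ := Ideal.Quotient.mk_surjective y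
      apply Ideal.Quotient.eq.mpr
      apply hinf
      refine ⟨?_, ?_⟩
      · have h1 : Ideal.Quotient.mk Iv y = Ideal.Quotient.mk Iv b := hy1
        have h2 := Ideal.Quotient.eq.mp h1
        have : y - (b - i) = (y - b) + i := by ring
        rw [this]
        exact Iv.add_mem h2 hi
      · have h1 : Ideal.Quotient.mk Iu y = Ideal.Quotient.mk Iu a' := hy2
        have h2 := Ideal.Quotient.eq.mp h1
        have : y - (b - i) = (y - a') - j := by linear_combination hij
        rw [this]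
        exact Iu.sub_mem h2 hj
  exact pic_mapAlgebra_surjective (P ⧸ Iw) (P ⧸ Iv) (P ⧸ Iu) (P ⧸ (Iv ⊔ Iu)) hsq
    (Ideal.Quotient.factor_surjective hv) (Ideal.Quotient.factor_surjective hu)

end quot

end Groth.Agent.NumTh.PicMilnor
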